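import Mathlib
import Groth.Prelude.Def_EtGlue
import Groth.Agent.EtGlue7.Glueing

/-! Glueing of flat algebras along a completion square. -/

set_option autoImplicit false
set_option linter.style.haveILetI false
set_option backward.isDefEq.respectTransparency.types false

universe u

open TensorProduct

namespace Groth.Agent.GSGlue

/-- A glueing square `R → R' → R₂ ← R₁ ← R`. -/
structure Sq (R R' R₁ R₂ : Type u) [CommRing R] [CommRing R'] [CommRing R₁] [CommRing R₂]
    [Algebra R R'] [Algebra R R₁] [Algebra R R₂] (r : R) where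
  i : R' →ₐ[R] R₂
  j : R₁ →ₐ[R] R₂
  i_inj : Function.Injective i
  j_inj : Function.Injective j
  unit₁ : IsUnit (algebraMap R R₁ r)
  den₁ : ∀ y : R₁, ∃ (n : ℕ) (a : R), r ^ n • y = algebraMap R R₁ a
  den₂ : ∀ y : R₂, ∃ (n : ℕ) (a : R'), r ^ n • y = i a
  qb : EtGlue.QuotPowBijective R R' r
  inj : ∀ x : R, algebraMap R R' x = 0 → x = 0

namespace Sq

variable {R R' R₁ R₂ : Type u} [CommRing R] [CommRing R'] [CommRing R₁] [CommRing R₂]
  [Algebra R R'] [Algebra R R₁] [Algebra R R₂] {r : R} (D : Sq R R' R₁ R₂ r)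

include D

theorem unit₂ : IsUnit (algebraMap R R₂ r) := by
  rw [← D.j.commutes]
  exact D.unit₁.map D.j

theorem smul_pow_inj {C : Type u} [CommRing C] [Algebra R C] (hC : IsUnit (algebraMap R C r)) (M : Type u)
    [AddCommGroup M] [Module R M] (n : ℕ) {z w : M ⊗[R] C} (h : r ^ n • z = r ^ n • w) : z = w := by
  let m : C →ₗ[R] C := LinearMap.mulLeft R (↑((hC.pow n).unit⁻¹) : C)
  have hm : ∀ t : M ⊗[R] C, m.lTensor M (r ^ n • t) = t := by
    intro t
    induction t using TensorProduct.induction_on with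
    | zero => simp
    | tmul a c =>
      rw [← TensorProduct.tmul_smul, LinearMap.lTensor_tmul]
      congr 1
      show (↑((hC.pow n).unit⁻¹) : C) * (r ^ n • c) = c
      rw [Algebra.smul_def, map_pow, ← mul_assoc, IsUnit.val_inv_mul, one_mul]
    | add a b ha hb => rw [smul_add, map_add, ha, hb]
  rw [← hm z, h, hm]

theorem exists_den {C C' : Type u} [AddCommGroup C] [Module R C] [AddCommGroup C'] [Module R C'] (f : C →ₗ[R] C')
    (hf : ∀ y, ∃ (n : ℕ) (a : C), r ^ n • y = f a) {M : Type u} [AddCommGroup M] [Module R M] (z : M ⊗[R] C') :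
    ∃ (n : ℕ) (x : M ⊗[R] C), r ^ n • z = f.lTensor M x := by
  induction z using TensorProduct.induction_on with
  | zero => exact ⟨0, 0, by simp⟩
  | tmul a c =>
    obtain ⟨n, b, hb⟩ := hf c
    exact ⟨n, a ⊗ₜ b, by rw [LinearMap.lTensor_tmul, ← TensorProduct.tmul_smul, hb]⟩
  | add x y hx hy =>
    obtain ⟨n, x', hx'⟩ := hx
    obtain ⟨m, y', hy'⟩ := hy
    refine ⟨n + m, r ^ m • x' + r ^ n • y', ?_⟩
    rw [smul_add, map_add, map_smul, map_smul, ← hx', ← hy', ← mul_smul, ← mul_smul, ← pow_add, ← pow_add, add_comm m n]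

variable (M : Type u) [AddCommGroup M] [Module R M] [Module.Flat R M]

theorem lTensor_i_inj : Function.Injective (D.i.toLinearMap.lTensor M) :=
  Module.Flat.lTensor_preserves_injective_linearMap _ D.i_inj

theorem lTensor_j_inj : Function.Injective (D.j.toLinearMap.lTensor M) :=
  Module.Flat.lTensor_preserves_injective_linearMap _ D.j_inj

/-- A flat module is the fibre product of its base changes. -/
theorem exists_glue (x : M ⊗[R] R') (y : M ⊗[R] R₁) (h : D.i.toLinearMap.lTensor M x = D.j.toLinearMap.lTensor M y) :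
    ∃ b : M, b ⊗ₜ[R] (1 : R') = x ∧ b ⊗ₜ[R] (1 : R₁) = y := by
  obtain ⟨n, y', hy'⟩ := D.exists_den (Algebra.linearMap R R₁) D.den₁ y
  obtain ⟨b, rfl⟩ := (TensorProduct.rid R M).symm.surjective y'
  rw [TensorProduct.rid_symm_apply, LinearMap.lTensor_tmul, Algebra.linearMap_apply, map_one] at hy'
  have hb : b ⊗ₜ[R] (1 : R') = r ^ n • x := by
    apply D.lTensor_i_inj M
    rw [map_smul, h, ← map_smul, hy', LinearMap.lTensor_tmul, LinearMap.lTensor_tmul, AlgHom.toLinearMap_apply,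
      AlgHom.toLinearMap_apply, map_one, map_one]
  have hb' : (1 : R') ⊗ₜ[R] b = r ^ n • (TensorProduct.comm R M R' x) := by
    rw [← map_smul, ← hb, TensorProduct.comm_tmul]
  obtain ⟨c, rfl⟩ := EtGlue7.mem_smul_of_one_tmul D.qb M hb'
  refine ⟨c, D.lTensor_i_inj M (D.smul_pow_inj D.unit₂ M n ?_), D.smul_pow_inj D.unit₁ M n ?_⟩
  · rw [← map_smul, ← map_smul, ← hb, TensorProduct.smul_tmul']
  · rw [hy', TensorProduct.smul_tmul']

/-- Points glue. -/
theorem exists_glue_algHom {P B : Type u} [CommRing P] [Algebra R P] [CommRing B] [Algebra R B] [Module.Flat R B]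
    [Module.FaithfullyFlat R R']
    (f' : P →ₐ[R] B ⊗[R] R') (f₁ : P →ₐ[R] B ⊗[R] R₁)
    (h : (Algebra.TensorProduct.map (AlgHom.id R B) D.i).comp f' = (Algebra.TensorProduct.map (AlgHom.id R B) D.j).comp f₁) :
    ∃ f : P →ₐ[R] B, (Algebra.TensorProduct.includeLeft).comp f = f' ∧ (Algebra.TensorProduct.includeLeft).comp f = f₁ := by
  have hinj : Function.Injective (Algebra.TensorProduct.includeLeft : B →ₐ[R] B ⊗[R] R') := by
    intro a b hab
    apply Module.FaithfullyFlat.tensorProduct_mk_injective (A := R) (B := R') B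
    have := congrArg (TensorProduct.comm R B R') hab
    simpa using this
  choose f hf hf' using fun p => D.exists_glue B (f' p) (f₁ p) (by
    have := congrArg (fun φ => φ p) h
    exact this)
  let F : P →ₐ[R] B :=
    { toFun := f
      map_one' := hinj (by show f 1 ⊗ₜ[R] (1 : R') = _; rw [hf, map_one, map_one])
      map_mul' := fun a b => hinj (by
        show f (a * b) ⊗ₜ[R] (1 : R') = _
        rw [hf, map_mul, map_mul, ← hf a, ← hf b]
        rfl)
      map_zero' := hinj (by show f 0 ⊗ₜ[R] (1 : R') = _; rw [hf, map_zero, map_zero])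
      map_add' := fun a b => hinj (by
        show f (a + b) ⊗ₜ[R] (1 : R') = _
        rw [hf, map_add, map_add, ← hf a, ← hf b]
        rfl)
      commutes' := fun a => hinj (by
        show f (algebraMap R P a) ⊗ₜ[R] (1 : R') = _
        rw [hf, AlgHom.commutes, AlgHom.commutes]) }
  exact ⟨F, AlgHom.ext hf, AlgHom.ext hf'⟩

section twist

attribute [local instance] Algebra.TensorProduct.rightAlgebra

variable {H : Type u} [CommRing H] [Algebra R H] [Module.Flat R H] [Module.FaithfullyFlat R R']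

/-- The twisted form of `H` glued by an automorphism over `R₂`. -/
theorem exists_twist [Algebra.FinitePresentation R H] (τ : (H ⊗[R] R₂) ≃ₐ[R] H ⊗[R] R₂)
    (hτ : ∀ c : R₂, τ (1 ⊗ₜ c) = 1 ⊗ₜ c) :
    ∃ (A : Type u) (_ : CommRing A) (_ : Algebra R A) (_ : Module.Flat R A) (_ : Algebra.FinitePresentation R A)
      (e' : (A ⊗[R] R') ≃ₐ[R] H ⊗[R] R') (e₁ : (A ⊗[R] R₁) ≃ₐ[R] H ⊗[R] R₁),
      (∀ c, e' (1 ⊗ₜ c) = 1 ⊗ₜ c) ∧ (∀ c, e₁ (1 ⊗ₜ c) = 1 ⊗ₜ c) ∧
      ∀ a : A, τ (Algebra.TensorProduct.map (AlgHom.id R H) D.i (e' (a ⊗ₜ 1))) =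
        Algebra.TensorProduct.map (AlgHom.id R H) D.j (e₁ (a ⊗ₜ 1)) := by
  let bi : H ⊗[R] R' →ₐ[R] H ⊗[R] R₂ := τ.toAlgHom.comp (Algebra.TensorProduct.map (AlgHom.id R H) D.i)
  let bj : H ⊗[R] R₁ →ₐ[R] H ⊗[R] R₂ := Algebra.TensorProduct.map (AlgHom.id R H) D.j
  have hbi : Function.Injective bi := τ.injective.comp (D.lTensor_i_inj H)
  have hbj : Function.Injective bj := D.lTensor_j_inj H
  -- `R' ⊗ (H ⊗ R₁) = H ⊗ R₂`
  let ω : R' ⊗[R] (H ⊗[R] R₁) →ₐ[R] H ⊗[R] R₂ := Algebra.TensorProduct.lift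
    ((Algebra.TensorProduct.includeRight : R₂ →ₐ[R] H ⊗[R] R₂).comp D.i) bj fun _ _ => Commute.all _ _
  have hu : IsUnit (algebraMap R (H ⊗[R] R₁) r) := by
    rw [← (Algebra.TensorProduct.includeRight : R₁ →ₐ[R] H ⊗[R] R₁).commutes]
    exact D.unit₁.map _
  let ι₁ : H →ₐ[R] H ⊗[R] R₁ := Algebra.TensorProduct.includeLeft
  have hden : ∀ y : H ⊗[R] R₁, ∃ (n : ℕ) (a : H), r ^ n • y = ι₁.toLinearMap a := by
    intro y
    obtain ⟨n, x, hx⟩ := D.exists_den (Algebra.linearMap R R₁) D.den₁ y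
    obtain ⟨a, rfl⟩ := (TensorProduct.rid R H).symm.surjective x
    exact ⟨n, a, by rw [hx, TensorProduct.rid_symm_apply]; simp [ι₁]⟩
  have hωι : ∀ x : R' ⊗[R] H, ω (ι₁.toLinearMap.lTensor R' x) = D.i.toLinearMap.lTensor H (TensorProduct.comm R R' H x) := by
    intro x
    induction x using TensorProduct.induction_on with
    | zero => simp
    | tmul c h => simp [ω, bj, ι₁]
    | add a b ha hb => simp only [map_add, ha, hb]
  have hω : Function.Bijective ω := by
    constructor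
    · refine (injective_iff_map_eq_zero _).2 fun u hu0 => ?_
      obtain ⟨n, x, hx⟩ := D.exists_den ι₁.toLinearMap hden u
      have hx0 : x = 0 := by
        apply (TensorProduct.comm R R' H).injective
        apply D.lTensor_i_inj H
        rw [← hωι, ← hx, map_smul, hu0, smul_zero, map_zero, map_zero]
      rw [hx0, map_zero] at hx
      exact D.smul_pow_inj hu R' n (hx.trans (smul_zero _).symm)
    · intro z
      obtain ⟨n, x, hx⟩ := D.exists_den D.i.toLinearMap D.den₂ z
      refine ⟨(↑((hu.pow n).unit⁻¹) : H ⊗[R] R₁) |> fun v => (1 : R') ⊗ₜ[R] v *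
        ι₁.toLinearMap.lTensor R' ((TensorProduct.comm R R' H).symm x), ?_⟩
      rw [map_mul, hωι, LinearEquiv.apply_symm_apply, ← hx, Algebra.smul_def, ← mul_assoc]
      have h1 : ω ((1 : R') ⊗ₜ[R] (↑((hu.pow n).unit⁻¹) : H ⊗[R] R₁)) * algebraMap R (H ⊗[R] R₂) (r ^ n) = 1 := by
        rw [← ω.commutes, ← map_mul, ← (Algebra.TensorProduct.includeRight : H ⊗[R] R₁ →ₐ[R] R' ⊗[R] (H ⊗[R] R₁)).commutes,
          Algebra.TensorProduct.includeRight_apply, Algebra.TensorProduct.tmul_mul_tmul, one_mul, map_pow,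
          IsUnit.val_inv_mul, ← Algebra.TensorProduct.one_def, map_one]
      rw [h1, one_mul]
  let ωe : (R' ⊗[R] (H ⊗[R] R₁)) ≃ₐ[R] H ⊗[R] R₂ := AlgEquiv.ofBijective ω hω
  let A : Subalgebra R ((H ⊗[R] R') × (H ⊗[R] R₁)) :=
    AlgHom.equalizer (bi.comp (AlgHom.fst R _ _)) (bj.comp (AlgHom.snd R _ _))
  let p : A →ₐ[R] H ⊗[R] R' := (AlgHom.fst R _ _).comp A.val
  let q : A →ₐ[R] H ⊗[R] R₁ := (AlgHom.snd R _ _).comp A.val
  have hpq : ∀ a, bi (p a) = bj (q a) := fun a => a.2
  have hpinj : Function.Injective p := fun a b h => Subtype.ext (Prod.ext h (hbj (by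
    show bj (q a) = bj (q b)
    rw [← hpq, ← hpq, h])))
  let β : H ⊗[R] R' →ₗ[R] R' ⊗[R] (H ⊗[R] R₁) := ωe.symm.toLinearMap ∘ₗ bi.toLinearMap
  have hone : ∀ y, ω ((1 : R') ⊗ₜ[R] y) = bj y := fun y => by simp [ω, ← Algebra.TensorProduct.one_def]
  have hGP : EtGlue.IsGlueingPair R R' r := by
    refine (EtGlue7.isGlueingPair_iff D.qb).2 ⟨fun x _ hx => D.inj x hx, fun x' ⟨n, hn⟩ => ⟨0, ⟨0, mul_zero _⟩, ?_⟩⟩
    rw [map_zero]
    apply D.i_inj
    have := congrArg D.i hn
    rw [map_mul, map_pow, AlgHom.commutes, map_zero] at this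
    rw [map_zero]
    exact ((D.unit₂.pow n).mul_right_eq_zero.1 this).symm
  let G : EtGlue7.GlueData R R' r A (H ⊗[R] R') (H ⊗[R] R₁) :=
    { p := p.toLinearMap
      q := q.toLinearMap
      β := β
      β_smul := fun c x => by
        apply hω.1
        show ω (ωe.symm (bi (c • x))) = ω (c • ωe.symm (bi x))
        have hs : ∀ z : R' ⊗[R] (H ⊗[R] R₁), c • z = (c ⊗ₜ[R] (1 : H ⊗[R] R₁)) * z := fun z => by
          induction z using TensorProduct.induction_on with
          | zero => rw [smul_zero, mul_zero]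
          | tmul a b => rw [TensorProduct.smul_tmul', Algebra.TensorProduct.tmul_mul_tmul, one_mul, smul_eq_mul]
          | add a b ha hb => rw [smul_add, mul_add, ha, hb]
        rw [show ∀ z, ω (ωe.symm z) = z from ωe.apply_symm_apply, Algebra.smul_def, map_mul, hs, map_mul,
          show ∀ z, ω (ωe.symm z) = z from ωe.apply_symm_apply]
        congr 1
        show τ (Algebra.TensorProduct.map (AlgHom.id R H) D.i ((1 : H) ⊗ₜ[R] c)) = ω (c ⊗ₜ[R] (1 : H ⊗[R] R₁))
        rw [Algebra.TensorProduct.map_tmul, AlgHom.id_apply, hτ]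
        simp [ω]
      comm := fun m => by
        apply hω.1
        rw [hone]
        show ω (ωe.symm (bi (p m))) = bj (q m)
        rw [show ∀ z, ω (ωe.symm z) = z from ωe.apply_symm_apply, hpq]
      inj := fun m h _ => hpinj (by rw [map_zero]; exact h)
      lift := fun x y h => ⟨⟨(x, y), by
        show bi x = bj y
        rw [← hone, ← h]
        exact (ωe.apply_symm_apply _).symm⟩, rfl, rfl⟩
      bij := by
        simp_rw [Algebra.smul_def]
        exact IsUnit.isUnit_iff_mulLeft_bijective.1 hu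
      ker := fun x hx => ⟨0, by
        rw [pow_zero, one_smul]
        apply hbi
        rw [map_zero]
        exact ωe.symm.map_eq_zero_iff.1 hx⟩
      surj := fun y => by
        obtain ⟨n, x, hx⟩ := D.exists_den D.i.toLinearMap D.den₂ (τ.symm (bj y))
        refine ⟨n, x, ?_⟩
        apply hω.1
        show ω (ωe.symm (bi x)) = _
        rw [show ∀ z, ω (ωe.symm z) = z from ωe.apply_symm_apply, hone, map_smul]
        show τ (D.i.toLinearMap.lTensor H x) = _
        rw [← hx, map_smul, AlgEquiv.apply_symm_apply] }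
  -- base change to `R'`
  let Ψ : R' ⊗[R] A →ₐ[R] H ⊗[R] R' :=
    Algebra.TensorProduct.lift (Algebra.TensorProduct.includeRight) p fun _ _ => Commute.all _ _
  have hΨ : ∀ t, Ψ t = G.toTensor t := fun t => by
    induction t using TensorProduct.induction_on with
    | zero => simp
    | tmul c a =>
      rw [Algebra.TensorProduct.lift_tmul, EtGlue7.GlueData.toTensor, LinearMap.liftBaseChange_tmul, Algebra.smul_def]
      rfl
    | add a b ha hb => simp only [map_add, ha, hb]
  have hΨb : Function.Bijective Ψ := by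
    rw [show ⇑Ψ = G.toTensor from funext hΨ]
    exact G.bijective_toTensor hGP
  let Ψe : (R' ⊗[R] A) ≃ₐ[R] H ⊗[R] R' := AlgEquiv.ofBijective Ψ hΨb
  let e' : (A ⊗[R] R') ≃ₐ[R] H ⊗[R] R' := (Algebra.TensorProduct.comm R A R').trans Ψe
  let fR : (R' ⊗[R] A) ≃ₐ[R] R' ⊗[R] H := Ψe.trans (Algebra.TensorProduct.comm R H R')
  let fR' : (R' ⊗[R] A) ≃ₐ[R'] R' ⊗[R] H := AlgEquiv.ofRingEquiv (f := fR.toRingEquiv) fun c => by
    show fR (c ⊗ₜ[R] (1 : A)) = c ⊗ₜ[R] (1 : H)
    simp [fR, Ψe, Ψ]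
  haveI : Module.Flat R' (R' ⊗[R] A) := Module.Flat.of_linearEquiv fR'.toLinearEquiv
  haveI : Module.Flat R A := Module.Flat.of_flat_tensorProduct R A R'
  haveI : Algebra.FinitePresentation R' (R' ⊗[R] A) := Algebra.FinitePresentation.equiv fR'.symm
  haveI : Algebra.FinitePresentation R A :=
    Algebra.FinitePresentation.of_finitePresentation_tensorProduct_of_faithfullyFlat R'
  -- localisation
  let Φ : A ⊗[R] R₁ →ₐ[R] H ⊗[R] R₁ :=
    Algebra.TensorProduct.lift q (Algebra.TensorProduct.includeRight) fun _ _ => Commute.all _ _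
  have hΦ1 : ∀ a : A, Φ (a ⊗ₜ (1 : R₁)) = q a := fun a => by simp [Φ, ← Algebra.TensorProduct.one_def]
  have hΦinv : ∀ (n : ℕ) (z : A ⊗[R] R₁), Φ z = 0 → ∀ a : A, r ^ n • z = a ⊗ₜ 1 → z = 0 := by
    intro n z hz a ha
    have : q a = 0 := by rw [← hΦ1, ← ha, map_smul, hz, smul_zero]
    have ha0 : a = 0 := hpinj (hbi (by rw [hpq, this, map_zero, map_zero, map_zero]))
    rw [ha0, TensorProduct.zero_tmul] at ha
    exact D.smul_pow_inj D.unit₁ A n (ha.trans (smul_zero _).symm)
  have hΦb : Function.Bijective Φ := by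
    constructor
    · refine (injective_iff_map_eq_zero _).2 fun z hz => ?_
      obtain ⟨n, x, hx⟩ := D.exists_den (Algebra.linearMap R R₁) D.den₁ z
      obtain ⟨a, rfl⟩ := (TensorProduct.rid R A).symm.surjective x
      exact hΦinv n z hz a (by rw [hx]; simp)
    · intro y
      obtain ⟨n, x, hx⟩ := D.exists_den D.i.toLinearMap D.den₂ (τ.symm (bj y))
      have hxy : bi x = bj (r ^ n • y) := by
        show τ (D.i.toLinearMap.lTensor H x) = _
        rw [← hx, map_smul, AlgEquiv.apply_symm_apply, map_smul]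
      refine ⟨(⟨(x, r ^ n • y), hxy⟩ : A) ⊗ₜ (↑((D.unit₁.pow n).unit⁻¹) : R₁), ?_⟩
      rw [Algebra.TensorProduct.lift_tmul]
      show (r ^ n • y) * (1 ⊗ₜ[R] _) = y
      rw [mul_comm, Algebra.smul_def, ← mul_assoc,
        ← (Algebra.TensorProduct.includeRight : R₁ →ₐ[R] H ⊗[R] R₁).commutes, map_pow,
        Algebra.TensorProduct.includeRight_apply, Algebra.TensorProduct.tmul_mul_tmul, one_mul, IsUnit.val_inv_mul,
        ← Algebra.TensorProduct.one_def, one_mul]
  refine ⟨A, inferInstance, inferInstance, inferInstance, inferInstance, e', AlgEquiv.ofBijective Φ hΦb,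
    fun c => ?_, fun c => ?_, fun a => ?_⟩
  · simp [e', Ψe, Ψ]
  · simp [Φ]
  · show τ (Algebra.TensorProduct.map (AlgHom.id R H) D.i (e' (a ⊗ₜ 1))) = bj (Φ (a ⊗ₜ 1))
    rw [hΦ1, ← hpq, show e' (a ⊗ₜ (1 : R')) = p a by simp [e', Ψe, Ψ, ← Algebra.TensorProduct.one_def]]
    rfl

end twist

end Sq

end Groth.Agent.GSGlue
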