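import Mathlib
import Groth.Prelude.Def_AlgGrp

/-! Glueing a torsor from two trivialisations, formal part. -/

set_option autoImplicit false

universe u

open CategoryTheory MonoidalCategory CartesianMonoidalCategory MonObj AlgebraicGeometry

namespace Groth.Agent.GSGlue

variable {S : Scheme.{u}}

/-- A trivialisation of `X` over `U` with values in `G`. -/
structure Chart (G X U : Over S) where
  a : X ⊗ U ⟶ G
  iso : IsIso (lift a (snd X U))

namespace Chart

variable {G X U : Over S} (c : Chart G X U)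

noncomputable def P {W : Over S} (u : W ⟶ U) (z : W ⟶ X) : W ⟶ G := lift z u ≫ c.a

noncomputable def Q {W : Over S} (u : W ⟶ U) (gm : W ⟶ G) : W ⟶ X :=
  haveI := c.iso
  lift gm u ≫ inv (lift c.a (snd X U)) ≫ fst X U

theorem comp_P {W W' : Over S} (h : W' ⟶ W) (u : W ⟶ U) (z : W ⟶ X) : h ≫ c.P u z = c.P (h ≫ u) (h ≫ z) := by
  rw [P, P, comp_lift_assoc]

theorem comp_Q {W W' : Over S} (h : W' ⟶ W) (u : W ⟶ U) (gm : W ⟶ G) : h ≫ c.Q u gm = c.Q (h ≫ u) (h ≫ gm) := by
  rw [Q, Q, comp_lift_assoc]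

theorem lift_P {W : Over S} (u : W ⟶ U) (z : W ⟶ X) : lift (c.P u z) u = lift z u ≫ lift c.a (snd X U) := by
  rw [comp_lift, lift_snd]
  rfl

theorem Q_P {W : Over S} (u : W ⟶ U) (z : W ⟶ X) : c.Q u (c.P u z) = z := by
  haveI := c.iso
  rw [Q, lift_P, Category.assoc, IsIso.hom_inv_id_assoc, lift_fst]

theorem P_Q {W : Over S} (u : W ⟶ U) (gm : W ⟶ G) : c.P u (c.Q u gm) = gm := by
  haveI := c.iso
  let t := lift gm u ≫ inv (lift c.a (snd X U))
  have ht : t ≫ lift c.a (snd X U) = lift gm u := by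
    simp only [t, Category.assoc, IsIso.inv_hom_id, Category.comp_id]
  have h1 : t ≫ c.a = gm := by
    have := congrArg (fun φ => φ ≫ fst G U) ht
    simpa only [Category.assoc, lift_fst] using this
  have h2 : t ≫ snd X U = u := by
    have := congrArg (fun φ => φ ≫ snd G U) ht
    simpa only [Category.assoc, lift_snd] using this
  have h3 : lift (c.Q u gm) u = t := by
    apply CartesianMonoidalCategory.hom_ext
    · rw [lift_fst, Q]; simp only [t, Category.assoc]
    · rw [lift_snd, h2]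
  rw [P, h3, h1]

theorem P_injective {W : Over S} (u : W ⟶ U) {z z' : W ⟶ X} (h : c.P u z = c.P u z') : z = z' := by
  rw [← c.Q_P u z, h, Q_P]

end Chart

variable {G X U' U₁ U₂ : Over S} [GrpObj G] (i : U₂ ⟶ U') (j : U₂ ⟶ U₁) (c' : Chart G X U') (c₁ : Chart G X U₁)
  (g : U₂ ⟶ G)

/-- Morphisms to `Y` glue. -/
def Glues (T Y : Over S) : Prop :=
  ∀ (z' : T ⊗ U' ⟶ Y) (z₁ : T ⊗ U₁ ⟶ Y), (T ◁ i) ≫ z' = (T ◁ j) ≫ z₁ →
    ∃ z : T ⟶ Y, fst T U' ≫ z = z' ∧ fst T U₁ ≫ z = z₁

variable (U') in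
/-- Morphisms to `Y` are determined over `U'`. -/
def Sep (T Y : Over S) : Prop := ∀ z z' : T ⟶ Y, fst T U' ≫ z = fst T U' ≫ z' → z = z'

theorem rel_apply (hrel : (X ◁ j) ≫ c₁.a = ((X ◁ i) ≫ c'.a) * (snd X U₂ ≫ g)) {W : Over S} (u : W ⟶ U₂) (z : W ⟶ X) :
    c₁.P (u ≫ j) z = c'.P (u ≫ i) z * (u ≫ g) := by
  have h := congrArg (fun φ => lift z u ≫ φ) hrel
  simp only [MonObj.comp_mul, lift_whiskerLeft_assoc, lift_snd_assoc] at h
  exact h

include i j in
/-- The glued action and its pseudo-torsor property. -/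
theorem exists_action (hrel : (X ◁ j) ≫ c₁.a = ((X ◁ i) ≫ c'.a) * (snd X U₂ ≫ g))
    (hgX : Glues i j (G ⊗ X) X) (hgG : Glues i j (X ⊗ X) G)
    (hs : ∀ T : Over S, T = 𝟙_ (Over S) ⊗ X ∨ T = (G ⊗ G) ⊗ X ∨ T = G ⊗ X ∨ T = X ⊗ X → Sep U' T X ∧ Sep U' T G) :
    ∃ a : AlgGrp.Action G X, IsIso (lift a.act (snd G X)) := by
  obtain ⟨act, hact', -⟩ := hgX
    (c'.Q (snd _ _) ((fst _ _ ≫ fst G X) * c'.P (snd _ _) (fst _ _ ≫ snd G X)))
    (c₁.Q (snd _ _) ((fst _ _ ≫ fst G X) * c₁.P (snd _ _) (fst _ _ ≫ snd G X))) (by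
    simp only [Chart.comp_Q, MonObj.comp_mul, Chart.comp_P, whiskerLeft_snd, whiskerLeft_fst_assoc]
    apply c₁.P_injective (snd (G ⊗ X) U₂ ≫ j)
    rw [Chart.P_Q, rel_apply i j c' c₁ g hrel, Chart.P_Q, rel_apply i j c' c₁ g hrel, _root_.mul_assoc])
  -- the action on points
  have hP : ∀ {W : Over S} (u : W ⟶ U') (gm : W ⟶ G) (z : W ⟶ X), c'.P u (lift gm z ≫ act) = gm * c'.P u z := by
    intro W u gm z
    have h := congrArg (fun φ => lift (lift gm z) u ≫ φ) hact'
    simp only [lift_fst_assoc, Chart.comp_Q, MonObj.comp_mul, Chart.comp_P, lift_snd, lift_fst] at h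
    rw [h, Chart.P_Q]
  have hext : ∀ {T : Over S}, Sep U' T X → ∀ z z' : T ⟶ X,
      c'.P (snd T U') (fst T U' ≫ z) = c'.P (snd T U') (fst T U' ≫ z') → z = z' :=
    fun hT z z' h => hT z z' (c'.P_injective _ h)
  obtain ⟨d, hd', -⟩ := hgG
    (c'.P (snd _ _) (fst _ _ ≫ fst X X) * (c'.P (snd _ _) (fst _ _ ≫ snd X X))⁻¹)
    (c₁.P (snd _ _) (fst _ _ ≫ fst X X) * (c₁.P (snd _ _) (fst _ _ ≫ snd X X))⁻¹) (by
    simp only [MonObj.comp_mul, GrpObj.comp_inv, Chart.comp_P, whiskerLeft_snd, whiskerLeft_fst_assoc,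
      rel_apply i j c' c₁ g hrel, mul_inv_rev]
    rw [← _root_.mul_assoc, mul_inv_cancel_right])
  have hd : ∀ {W : Over S} (u : W ⟶ U') (z z₀ : W ⟶ X), lift z z₀ ≫ d = c'.P u z * (c'.P u z₀)⁻¹ := by
    intro W u z z₀
    have h := congrArg (fun φ => lift (lift z z₀) u ≫ φ) hd'
    simp only [lift_fst_assoc, MonObj.comp_mul, GrpObj.comp_inv, Chart.comp_P, lift_snd, lift_fst] at h
    exact h
  let a : AlgGrp.Action G X :=
    { act := act
      one_act := by
        refine hext (hs _ (Or.inl rfl)).1 _ _ ?_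
        have e : fst (𝟙_ (Over S) ⊗ X) U' ≫ (η[G] ▷ X) ≫ act =
            lift (1 : _ ⟶ G) (fst _ U' ≫ (λ_ X).hom) ≫ act := by
          rw [← Category.assoc]
          congr 1
          apply CartesianMonoidalCategory.hom_ext
          · rw [lift_fst, Category.assoc, whiskerRight_fst, ← Category.assoc, Hom.one_def]
            congr 1
          · rw [lift_snd, Category.assoc, whiskerRight_snd, leftUnitor_hom]
        rw [e, hP, _root_.one_mul]
      mul_act := by
        refine hext (hs _ (Or.inr (Or.inl rfl))).1 _ _ ?_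
        have e1 : fst ((G ⊗ G) ⊗ X) U' ≫ (μ[G] ▷ X) ≫ act =
            lift ((fst _ U' ≫ fst _ _ ≫ fst G G) * (fst _ U' ≫ fst _ _ ≫ snd G G)) (fst _ U' ≫ snd (G ⊗ G) X) ≫ act := by
          rw [← Category.assoc]
          congr 1
          apply CartesianMonoidalCategory.hom_ext
          · rw [lift_fst, Category.assoc, whiskerRight_fst, Hom.mul_def, ← comp_lift, ← comp_lift, lift_fst_snd,
              Category.comp_id, Category.assoc]
          · rw [lift_snd, Category.assoc, whiskerRight_snd]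
        have e2 : fst ((G ⊗ G) ⊗ X) U' ≫ (α_ G G X).hom ≫ (G ◁ act) ≫ act =
            lift (fst _ U' ≫ fst _ _ ≫ fst G G)
              (lift (fst _ U' ≫ fst _ _ ≫ snd G G) (fst _ U' ≫ snd (G ⊗ G) X) ≫ act) ≫ act := by
          rw [← Category.assoc, ← Category.assoc]
          congr 1
          apply CartesianMonoidalCategory.hom_ext
          · simp
          · rw [lift_snd, Category.assoc, Category.assoc, whiskerLeft_snd, ← Category.assoc, ← Category.assoc]
            congr 1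
            apply CartesianMonoidalCategory.hom_ext <;> simp
        rw [e1, e2, hP, hP, hP, _root_.mul_assoc] }
  refine ⟨a, ⟨lift d (snd X X), ?_, ?_⟩⟩
  · apply CartesianMonoidalCategory.hom_ext
    · refine (hs _ (Or.inr (Or.inr (Or.inl rfl)))).2 _ _ ?_
      rw [Category.assoc, lift_fst, Category.id_comp, ← Category.assoc, comp_lift,
        hd (snd (G ⊗ X) U'), show fst (G ⊗ X) U' ≫ a.act = lift (fst _ U' ≫ fst G X) (fst _ U' ≫ snd G X) ≫ act by
          rw [← comp_lift, lift_fst_snd, Category.comp_id],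
        hP, mul_inv_cancel_right]
    · rw [Category.assoc, lift_snd, lift_snd, Category.id_comp]
  · apply CartesianMonoidalCategory.hom_ext
    · refine hext (hs _ (Or.inr (Or.inr (Or.inr rfl)))).1 _ _ ?_
      rw [Category.assoc, lift_fst, Category.id_comp, show a.act = act from rfl, ← Category.assoc, comp_lift,
        hP, show fst (X ⊗ X) U' ≫ d = lift (fst _ U' ≫ fst X X) (fst _ U' ≫ snd X X) ≫ d by
          rw [← comp_lift, lift_fst_snd, Category.comp_id],
        hd (snd (X ⊗ X) U'), inv_mul_cancel_right]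
    · rw [Category.assoc, lift_snd, lift_snd, Category.id_comp]

end Groth.Agent.GSGlue
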