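import Mathlib
import Groth.Prelude.Def_NonAbH2
import Groth.Prelude.Def_Red
import Groth.Agent.GSGlue.Formal
import Groth.Agent.GSGlue.Alg

/-! Points over a completion square of a group with trivial torsors. -/

set_option autoImplicit false
set_option linter.style.haveILetI false

universe u

open CategoryTheory MonoidalCategory CartesianMonoidalCategory MonObj AlgebraicGeometry

namespace Groth.Agent.GSGlue

variable {R : Type u} [CommRing R]

/-- The spectrum of an algebra over the base. -/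
noncomputable abbrev Sp (R : Type u) [CommRing R] (B : Type u) [CommRing B] [Algebra R B] :
    Over (Spec (CommRingCat.of R)) :=
  Over.mk (Spec.map (CommRingCat.ofHom (algebraMap R B)))

noncomputable def spMap {B C : Type u} [CommRing B] [Algebra R B] [CommRing C] [Algebra R C] (f : B →ₐ[R] C) :
    Sp R C ⟶ Sp R B :=
  Over.homMk (Spec.map (CommRingCat.ofHom f.toRingHom)) (by
    show Spec.map _ ≫ Spec.map _ = Spec.map _
    rw [← Spec.map_comp, ← CommRingCat.ofHom_comp]
    congr 2
    exact f.comp_algebraMap)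

variable {B C D : Type u} [CommRing B] [Algebra R B] [CommRing C] [Algebra R C] [CommRing D] [Algebra R D]

theorem spMap_comp (f : B →ₐ[R] C) (g : C →ₐ[R] D) : spMap (g.comp f) = spMap g ≫ spMap f :=
  Over.OverMorphism.ext (by
    show Spec.map (CommRingCat.ofHom (g.toRingHom.comp f.toRingHom)) = Spec.map _ ≫ Spec.map _
    rw [CommRingCat.ofHom_comp, Spec.map_comp])

theorem spMap_id : spMap (AlgHom.id R B) = 𝟙 (Sp R B) :=
  Over.OverMorphism.ext (by
    show Spec.map (CommRingCat.ofHom (RingHom.id B)) = 𝟙 _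
    rw [CommRingCat.ofHom_id, Spec.map_id])

theorem spMap_injective : Function.Injective (spMap : (B →ₐ[R] C) → (Sp R C ⟶ Sp R B)) := by
  intro f g h
  have := Spec.map_injective (congrArg CommaMorphism.left h)
  exact AlgHom.coe_ringHom_injective (congrArg CommRingCat.Hom.hom this)

theorem exists_spMap (φ : Sp R C ⟶ Sp R B) : ∃ f : B →ₐ[R] C, spMap f = φ := by
  have hw : Spec.map (Spec.preimage φ.left) ≫ Spec.map (CommRingCat.ofHom (algebraMap R B)) =
      Spec.map (CommRingCat.ofHom (algebraMap R C)) := by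
    rw [Spec.map_preimage]; exact Over.w φ
  rw [← Spec.map_comp] at hw
  have h := congrArg CommRingCat.Hom.hom (Spec.map_injective hw)
  refine ⟨{ (Spec.preimage φ.left).hom with commutes' := fun r => DFunLike.congr_fun h r }, Over.OverMorphism.ext ?_⟩
  show Spec.map _ = φ.left
  exact (Spec.map_preimage φ.left)

noncomputable def spIso (e : B ≃ₐ[R] C) : Sp R C ≅ Sp R B where
  hom := spMap e.toAlgHom
  inv := spMap e.symm.toAlgHom
  hom_inv_id := by rw [← spMap_comp, AlgEquiv.comp_symm, spMap_id]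
  inv_hom_id := by rw [← spMap_comp, AlgEquiv.symm_comp, spMap_id]

variable (B C) in
noncomputable def prodIso : Sp R B ⊗ Sp R C ≅ Sp R (TensorProduct R B C) :=
  Over.isoMk (pullbackSpecIso R B C) (by
    rw [← Iso.eq_inv_comp]
    show _ = (pullbackSpecIso R B C).inv ≫ Limits.pullback.fst _ _ ≫ Spec.map _
    rw [pullbackSpecIso_inv_fst'_assoc, ← Spec.map_comp, ← CommRingCat.ofHom_comp, ← IsScalarTower.algebraMap_eq]
    rfl)

theorem prodIso_inv_fst :
    (prodIso B C).inv ≫ fst (Sp R B) (Sp R C) = spMap (Algebra.TensorProduct.includeLeft (R := R) (S := R)) :=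
  Over.OverMorphism.ext (pullbackSpecIso_inv_fst R B C)

theorem prodIso_inv_snd :
    (prodIso B C).inv ≫ snd (Sp R B) (Sp R C) = spMap (Algebra.TensorProduct.includeRight (R := R)) :=
  Over.OverMorphism.ext (pullbackSpecIso_inv_snd R B C)

@[reassoc]
theorem prodIso_natural {C' : Type u} [CommRing C'] [Algebra R C'] (f : C →ₐ[R] C') :
    spMap (Algebra.TensorProduct.map (AlgHom.id R B) f) ≫ (prodIso B C).inv =
      (prodIso B C').inv ≫ (Sp R B ◁ spMap f) := by
  apply CartesianMonoidalCategory.hom_ext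
  · rw [Category.assoc, Category.assoc, whiskerLeft_fst, prodIso_inv_fst, prodIso_inv_fst, ← spMap_comp]
    congr 1
    ext a
    simp
  · rw [Category.assoc, Category.assoc, whiskerLeft_snd, prodIso_inv_snd, ← Category.assoc, prodIso_inv_snd,
      ← spMap_comp, ← spMap_comp]
    congr 1

/-- `T` is affine and flat over the base. -/
def IsFlatAff (T : Over (Spec (CommRingCat.of R))) : Prop :=
  ∃ (B : Type u) (_ : CommRing B) (_ : Algebra R B) (_ : Module.Flat R B), Nonempty (T ≅ Sp R B)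

theorem IsFlatAff.tensor {T T' : Over (Spec (CommRingCat.of R))} (h : IsFlatAff T) (h' : IsFlatAff T') :
    IsFlatAff (T ⊗ T') := by
  obtain ⟨B, _, _, _, ⟨e⟩⟩ := h
  obtain ⟨B', _, _, _, ⟨e'⟩⟩ := h'
  exact ⟨TensorProduct R B B', inferInstance, inferInstance, inferInstance,
    ⟨tensorIso e e' ≪≫ prodIso B B'⟩⟩

theorem IsFlatAff.unit : IsFlatAff (𝟙_ (Over (Spec (CommRingCat.of R)))) :=
  ⟨R, inferInstance, inferInstance, inferInstance, ⟨Over.isoMk (Iso.refl _) (by
    show 𝟙 _ ≫ Spec.map _ = 𝟙 _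
    rw [Category.id_comp, show CommRingCat.ofHom (algebraMap R R) = 𝟙 (CommRingCat.of R) from rfl, Spec.map_id])⟩⟩

variable {R' R₁ R₂ : Type u} [CommRing R'] [CommRing R₁] [CommRing R₂]
  [Algebra R R'] [Algebra R R₁] [Algebra R R₂] {r : R} (Q : Sq R R' R₁ R₂ r) [Module.FaithfullyFlat R R']

include Q in
theorem glues {T Y : Over (Spec (CommRingCat.of R))} (hT : IsFlatAff T) (hY : IsFlatAff Y) :
    Glues (spMap Q.i) (spMap Q.j) T Y := by
  obtain ⟨B, _, _, _, ⟨e⟩⟩ := hT
  obtain ⟨P, _, _, _, ⟨d⟩⟩ := hY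
  intro z' z₁ h
  obtain ⟨f', hf'⟩ := exists_spMap ((prodIso B R').inv ≫ (e.inv ▷ Sp R R') ≫ z' ≫ d.hom)
  obtain ⟨f₁, hf₁⟩ := exists_spMap ((prodIso B R₁).inv ≫ (e.inv ▷ Sp R R₁) ≫ z₁ ≫ d.hom)
  obtain ⟨f, hfa, hfb⟩ := Q.exists_glue_algHom f' f₁ (spMap_injective (by
    rw [spMap_comp, spMap_comp, hf', hf₁, prodIso_natural_assoc, prodIso_natural_assoc,
      whisker_exchange_assoc, whisker_exchange_assoc, reassoc_of% h]))
  refine ⟨e.hom ≫ spMap f ≫ d.inv, ?_, ?_⟩
  · rw [← cancel_mono d.hom, Category.assoc, Category.assoc, Category.assoc, Iso.inv_hom_id, Category.comp_id,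
      ← cancel_epi ((prodIso B R').inv ≫ (e.inv ▷ Sp R R')), Category.assoc, Category.assoc,
      whiskerRight_fst_assoc, Iso.inv_hom_id_assoc, ← Category.assoc, prodIso_inv_fst, ← spMap_comp, hfa, hf']
  · rw [← cancel_mono d.hom, Category.assoc, Category.assoc, Category.assoc, Iso.inv_hom_id, Category.comp_id,
      ← cancel_epi ((prodIso B R₁).inv ≫ (e.inv ▷ Sp R R₁)), Category.assoc, Category.assoc,
      whiskerRight_fst_assoc, Iso.inv_hom_id_assoc, ← Category.assoc, prodIso_inv_fst, ← spMap_comp, hfb, hf₁]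

theorem sep {T Y : Over (Spec (CommRingCat.of R))} (hT : IsFlatAff T) (hY : IsFlatAff Y) : Sep (Sp R R') T Y := by
  obtain ⟨B, _, _, _, ⟨e⟩⟩ := hT
  obtain ⟨P, _, _, _, ⟨d⟩⟩ := hY
  intro z z' h
  obtain ⟨f, hf⟩ := exists_spMap (e.inv ≫ z ≫ d.hom)
  obtain ⟨f', hf'⟩ := exists_spMap (e.inv ≫ z' ≫ d.hom)
  have h1 : spMap ((Algebra.TensorProduct.includeLeft : B →ₐ[R] TensorProduct R B R').comp f) =
      spMap ((Algebra.TensorProduct.includeLeft : B →ₐ[R] TensorProduct R B R').comp f') := by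
    rw [spMap_comp, spMap_comp, hf, hf', ← prodIso_inv_fst]
    simp only [Category.assoc]
    rw [← whiskerRight_fst_assoc e.inv, ← whiskerRight_fst_assoc e.inv, reassoc_of% h]
  have h2 : f = f' := AlgHom.ext fun x => by
    have h3 := DFunLike.congr_fun (spMap_injective h1) x
    apply Module.FaithfullyFlat.tensorProduct_mk_injective (A := R) (B := R') B
    have := congrArg (TensorProduct.comm R B R') h3
    simpa using this
  rw [← cancel_epi e.inv, ← cancel_mono d.hom, Category.assoc, Category.assoc, ← hf, ← hf', h2]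

include Q in
/-- Points over `R₂` decompose. -/
theorem exists_factor (G : Over (Spec (CommRingCat.of R))) [GrpObj G] {H : Type u} [CommRing H] [Algebra R H]
    [Module.Flat R H] [Algebra.FinitePresentation R H] (eG : G ≅ Sp R H) {K : Type u} [CommRing K] [Algebra R K]
    (κ : R₁ →ₐ[R] K)
    (hGS : ∀ (X : Over (Spec (CommRingCat.of R))) (a : AlgGrp.Action G X),
      NonAbH1.IsTorsorFor Scheme.fppfPrecoverage a →
      NonAbH1.HasSectionOver X (Spec.map (CommRingCat.ofHom (algebraMap R K))) →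
      NonAbH1.HasSectionOver X (𝟙 (Spec (CommRingCat.of R))))
    (g : Sp R R₂ ⟶ G) :
    ∃ (g' : Sp R R' ⟶ G) (g₁ : Sp R R₁ ⟶ G), g = (spMap Q.i ≫ g') * (spMap Q.j ≫ g₁) := by
  -- translation by `g`
  let τ : G ⊗ Sp R R₂ ≅ G ⊗ Sp R R₂ :=
    { hom := lift (fst _ _ * (snd _ _ ≫ g)) (snd _ _)
      inv := lift (fst _ _ * (snd _ _ ≫ g)⁻¹) (snd _ _)
      hom_inv_id := by
        apply CartesianMonoidalCategory.hom_ext
        · simp [MonObj.comp_mul, GrpObj.comp_inv]
        · simp
      inv_hom_id := by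
        apply CartesianMonoidalCategory.hom_ext
        · simp [MonObj.comp_mul]
        · simp }
  let P₂ : G ⊗ Sp R R₂ ≅ Sp R (TensorProduct R H R₂) := whiskerRightIso eG _ ≪≫ prodIso H R₂
  let T : Sp R (TensorProduct R H R₂) ≅ Sp R (TensorProduct R H R₂) := P₂.symm ≪≫ τ ≪≫ P₂
  obtain ⟨σ, hσ⟩ := exists_spMap T.hom
  obtain ⟨σ', hσ'⟩ := exists_spMap T.inv
  let σe : TensorProduct R H R₂ ≃ₐ[R] TensorProduct R H R₂ := AlgEquiv.ofAlgHom σ σ'
    (spMap_injective (by rw [spMap_comp, hσ, hσ', Iso.hom_inv_id, spMap_id]))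
    (spMap_injective (by rw [spMap_comp, hσ, hσ', Iso.inv_hom_id, spMap_id]))
  have hsnd : P₂.inv ≫ snd G (Sp R R₂) = spMap (Algebra.TensorProduct.includeRight (R := R) (A := H)) := by
    simp only [P₂, Iso.trans_inv, whiskerRightIso_inv, Category.assoc, whiskerRight_snd, prodIso_inv_snd]
  have hfst : P₂.inv ≫ fst G (Sp R R₂) = spMap (Algebra.TensorProduct.includeLeft (R := R) (S := R)) ≫ eG.inv := by
    simp only [P₂, Iso.trans_inv, whiskerRightIso_inv, Category.assoc, whiskerRight_fst]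
    rw [← Category.assoc, prodIso_inv_fst]
  have hσr : ∀ c, σe.symm ((1 : H) ⊗ₜ[R] c) = (1 : H) ⊗ₜ[R] c := by
    intro c
    rw [AlgEquiv.symm_apply_eq]
    have h : σ.comp Algebra.TensorProduct.includeRight = Algebra.TensorProduct.includeRight := spMap_injective (by
      rw [spMap_comp, hσ, ← hsnd]
      simp [T, τ])
    exact (DFunLike.congr_fun h c).symm
  obtain ⟨A, _, _, _, _, e', e₁, he'r, he₁r, hrel⟩ := Q.exists_twist σe.symm hσr
  let X : Over (Spec (CommRingCat.of R)) := Sp R A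
  -- charts
  let a' : X ⊗ Sp R R' ⟶ G := (prodIso A R').hom ≫
    spMap (e'.symm.toAlgHom.comp (Algebra.TensorProduct.includeLeft (R := R) (S := R))) ≫ eG.inv
  let a₁ : X ⊗ Sp R R₁ ⟶ G := (prodIso A R₁).hom ≫
    spMap (e₁.symm.toAlgHom.comp (Algebra.TensorProduct.includeLeft (R := R) (S := R))) ≫ eG.inv
  have hc : ∀ (U : Type u) [CommRing U] [Algebra R U] (e : TensorProduct R A U ≃ₐ[R] TensorProduct R H U),
      (∀ c, e (1 ⊗ₜ c) = 1 ⊗ₜ c) → IsIso (lift ((prodIso A U).hom ≫
        spMap (e.symm.toAlgHom.comp (Algebra.TensorProduct.includeLeft (R := R) (S := R))) ≫ eG.inv) (snd X (Sp R U))) := by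
    intro U _ _ e he
    have h : lift ((prodIso A U).hom ≫
        spMap (e.symm.toAlgHom.comp (Algebra.TensorProduct.includeLeft (R := R) (S := R))) ≫ eG.inv) (snd X (Sp R U)) =
        ((prodIso A U) ≪≫ spIso e.symm ≪≫ (prodIso H U).symm ≪≫ whiskerRightIso eG.symm _).hom := by
      apply CartesianMonoidalCategory.hom_ext
      · simp only [lift_fst, Iso.trans_hom, Iso.symm_hom, whiskerRightIso_hom, Category.assoc, whiskerRight_fst]
        rw [spMap_comp, ← prodIso_inv_fst]
        simp [spIso]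
      · simp only [lift_snd, Iso.trans_hom, Iso.symm_hom, whiskerRightIso_hom, Category.assoc, whiskerRight_snd,
          prodIso_inv_snd]
        show snd X (Sp R U) = (prodIso A U).hom ≫ spMap e.symm.toAlgHom ≫ spMap _
        rw [← spMap_comp, show e.symm.toAlgHom.comp Algebra.TensorProduct.includeRight =
            (Algebra.TensorProduct.includeRight : U →ₐ[R] TensorProduct R A U) from
          AlgHom.ext fun c => e.symm_apply_eq.2 (he c).symm, ← prodIso_inv_snd, Iso.hom_inv_id_assoc]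
    rw [h]
    infer_instance
  let c' : Chart G X (Sp R R') := ⟨a', hc R' e' he'r⟩
  let c₁ : Chart G X (Sp R R₁) := ⟨a₁, hc R₁ e₁ he₁r⟩
  have hchart : (X ◁ spMap Q.j) ≫ c₁.a = ((X ◁ spMap Q.i) ≫ c'.a) * (snd X (Sp R R₂) ≫ g) := by
    let E : TensorProduct R H R₂ →ₐ[R] TensorProduct R A R₂ := Algebra.TensorProduct.lift
      ((Algebra.TensorProduct.map (AlgHom.id R A) Q.i).comp
        (e'.symm.toAlgHom.comp (Algebra.TensorProduct.includeLeft (R := R) (S := R))))
      Algebra.TensorProduct.includeRight fun _ _ => Commute.all _ _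
    let F : TensorProduct R A R₂ →ₐ[R] TensorProduct R H R₂ := Algebra.TensorProduct.lift
      ((Algebra.TensorProduct.map (AlgHom.id R H) Q.i).comp
        (e'.toAlgHom.comp (Algebra.TensorProduct.includeLeft (R := R) (S := R))))
      Algebra.TensorProduct.includeRight fun _ _ => Commute.all _ _
    have hEmap : ∀ z, E (Algebra.TensorProduct.map (AlgHom.id R H) Q.i z) =
        Algebra.TensorProduct.map (AlgHom.id R A) Q.i (e'.symm z) := by
      intro z
      induction z using TensorProduct.induction_on with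
      | zero => simp
      | add x y hx hy => simp only [map_add, hx, hy]
      | tmul h c =>
        rw [show h ⊗ₜ[R] c = (h ⊗ₜ[R] (1 : R')) * ((1 : H) ⊗ₜ[R] c) by
          rw [Algebra.TensorProduct.tmul_mul_tmul, _root_.mul_one, _root_.one_mul]]
        simp only [map_mul]
        congr 1
        · simp [E, ← Algebra.TensorProduct.one_def]
        · rw [show e'.symm ((1 : H) ⊗ₜ[R] c) = (1 : A) ⊗ₜ[R] c from e'.symm_apply_eq.2 (he'r c).symm]
          simp [E, ← Algebra.TensorProduct.one_def]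
    have hEF : E.comp F = AlgHom.id R _ := by
      refine Algebra.TensorProduct.ext ?_ ?_
      · refine AlgHom.ext fun a => ?_
        have h1 : F (a ⊗ₜ[R] (1 : R₂)) = Algebra.TensorProduct.map (AlgHom.id R H) Q.i (e' (a ⊗ₜ 1)) := by simp [F, ← Algebra.TensorProduct.one_def]
        show E (F (a ⊗ₜ[R] (1 : R₂))) = a ⊗ₜ[R] (1 : R₂)
        rw [h1, hEmap, e'.symm_apply_apply, Algebra.TensorProduct.map_tmul, map_one]
        rfl
      · refine AlgHom.ext fun c => ?_
        show E (F ((1 : A) ⊗ₜ[R] c)) = (1 : A) ⊗ₜ[R] c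
        rw [show F ((1 : A) ⊗ₜ[R] c) = (1 : H) ⊗ₜ[R] c by simp [F, ← Algebra.TensorProduct.one_def]]
        simp [E, ← Algebra.TensorProduct.one_def]
    have hF : ∀ z, σe.symm (F (Algebra.TensorProduct.map (AlgHom.id R A) Q.j z)) =
        Algebra.TensorProduct.map (AlgHom.id R H) Q.j (e₁ z) := by
      intro z
      induction z using TensorProduct.induction_on with
      | zero => simp
      | add x y hx hy => simp only [map_add, hx, hy]
      | tmul a c =>
        rw [show a ⊗ₜ[R] c = (a ⊗ₜ[R] (1 : R₁)) * ((1 : A) ⊗ₜ[R] c) by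
          rw [Algebra.TensorProduct.tmul_mul_tmul, _root_.mul_one, _root_.one_mul]]
        simp only [map_mul]
        congr 1
        · rw [← hrel a]
          congr 1
          simp [F, ← Algebra.TensorProduct.one_def]
        · rw [he₁r, show F (Algebra.TensorProduct.map (AlgHom.id R A) Q.j ((1 : A) ⊗ₜ[R] c)) = (1 : H) ⊗ₜ[R] Q.j c by
            simp [F, ← Algebra.TensorProduct.one_def], hσr]
          simp
    have hkey : (Algebra.TensorProduct.map (AlgHom.id R A) Q.j).comp
        (e₁.symm.toAlgHom.comp (Algebra.TensorProduct.includeLeft (R := R) (S := R))) =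
        E.comp (σ.comp (Algebra.TensorProduct.includeLeft (R := R) (S := R))) := by
      refine AlgHom.ext fun h => ?_
      show Algebra.TensorProduct.map (AlgHom.id R A) Q.j (e₁.symm (h ⊗ₜ 1)) = E (σe (h ⊗ₜ 1))
      have hw := hF (e₁.symm (h ⊗ₜ 1))
      rw [e₁.apply_symm_apply, Algebra.TensorProduct.map_tmul, AlgHom.id_apply, map_one, AlgEquiv.symm_apply_eq] at hw
      rw [← hw]
      exact (DFunLike.congr_fun hEF _).symm
    rw [← cancel_epi (prodIso A R₂).inv]
    have hL : (prodIso A R₂).inv ≫ (X ◁ spMap Q.j) ≫ c₁.a =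
        spMap (E.comp (σ.comp (Algebra.TensorProduct.includeLeft (R := R) (S := R)))) ≫ eG.inv := by
      rw [← hkey, spMap_comp, Category.assoc, ← Category.assoc, ← prodIso_natural]
      simp [c₁, a₁]
    have hlift : spMap E ≫ P₂.inv = (prodIso A R₂).inv ≫ lift ((X ◁ spMap Q.i) ≫ c'.a) (snd X (Sp R R₂)) := by
      apply CartesianMonoidalCategory.hom_ext
      · rw [Category.assoc, Category.assoc, lift_fst, hfst, ← Category.assoc, ← spMap_comp, ← Category.assoc,
          ← prodIso_natural]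
        simp only [c', a', Category.assoc, Iso.inv_hom_id_assoc]
        rw [← Category.assoc, ← spMap_comp]
        congr 2
        ext h
        simp [E, ← Algebra.TensorProduct.one_def]
      · rw [Category.assoc, Category.assoc, lift_snd, hsnd, prodIso_inv_snd, ← spMap_comp]
        congr 1
        ext c
        simp [E, ← Algebra.TensorProduct.one_def]
    rw [hL, spMap_comp, spMap_comp, hσ, Category.assoc, Category.assoc, ← hfst]
    simp only [T, Iso.trans_hom, Iso.symm_hom, Category.assoc, Iso.hom_inv_id_assoc]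
    rw [reassoc_of% hlift]
    congr 1
    simp [τ, MonObj.comp_mul]
  have hGA : IsFlatAff G := ⟨H, inferInstance, inferInstance, inferInstance, ⟨eG⟩⟩
  have hXA : IsFlatAff X := ⟨A, inferInstance, inferInstance, inferInstance, ⟨Iso.refl _⟩⟩
  obtain ⟨a, ha⟩ := exists_action (spMap Q.i) (spMap Q.j) c' c₁ g hchart (glues Q (hGA.tensor hXA) hXA)
    (glues Q (hXA.tensor hXA) hGA) (fun T hT => by
      have : IsFlatAff T := by
        rcases hT with rfl | rfl | rfl | rfl
        exacts [IsFlatAff.unit.tensor hXA, (hGA.tensor hGA).tensor hXA, hGA.tensor hXA, hXA.tensor hXA]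
      exact ⟨sep this hXA, sep this hGA⟩)
  -- sections
  have hsurj : Function.Surjective X.hom.base := by
    intro x
    obtain ⟨y, hy⟩ : ∃ y, (Sp R R').hom.base y = x := PrimeSpectrum.comap_surjective_of_faithfullyFlat x
    refine ⟨(c'.Q (𝟙 _) 1).left.base y, ?_⟩
    rw [← hy, ← Over.w (c'.Q (𝟙 _) 1)]
    rfl
  haveI : Flat X.hom := by
    show Flat (Spec.map (CommRingCat.ofHom (algebraMap R A)))
    rw [HasRingHomProperty.Spec_iff (P := @Flat), CommRingCat.hom_ofHom, RingHom.flat_algebraMap_iff]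
    infer_instance
  haveI : LocallyOfFinitePresentation X.hom := by
    show LocallyOfFinitePresentation (Spec.map (CommRingCat.ofHom (algebraMap R A)))
    rw [HasRingHomProperty.Spec_iff (P := @LocallyOfFinitePresentation), CommRingCat.hom_ofHom,
      RingHom.finitePresentation_algebraMap]
    infer_instance
  have htors : NonAbH1.IsTorsorFor Scheme.fppfPrecoverage a := by
    refine ⟨ha, Presieve.singleton X.hom,
      (Scheme.singleton_mem_precoverage_iff _ _).2 ⟨hsurj, ‹Flat X.hom›, ‹LocallyOfFinitePresentation X.hom›⟩, ?_⟩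
    rintro S' f ⟨⟩
    exact ⟨𝟙 _, Category.id_comp _⟩
  obtain ⟨s, hs⟩ := hGS X a htors ⟨(spMap κ ≫ c₁.Q (𝟙 _) 1).left, Over.w (spMap κ ≫ c₁.Q (𝟙 _) 1)⟩
  let sec : 𝟙_ (Over (Spec (CommRingCat.of R))) ⟶ X := Over.homMk s hs
  refine ⟨(c'.P (𝟙 _) (toUnit _ ≫ sec))⁻¹, c₁.P (𝟙 _) (toUnit _ ≫ sec), ?_⟩
  have h := rel_apply (spMap Q.i) (spMap Q.j) c' c₁ g hchart (𝟙 (Sp R R₂)) (toUnit _ ≫ sec)
  rw [GrpObj.comp_inv, c'.comp_P, c₁.comp_P, Category.comp_id, Category.comp_id, comp_toUnit_assoc, comp_toUnit_assoc]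
  simp only [Category.id_comp] at h
  rw [h, inv_mul_cancel_left]

end Groth.Agent.GSGlue
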